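import Cfsg.Agent.Qtz.PP2

set_option autoImplicit false
set_option linter.unusedSectionVars false

open scoped commutatorElement

namespace Cfsg.Lib.Qtz

open Cfsg Subgroup Cfsg.Lib.Trans Cfsg.Lib.Trans.TJ Cfsg.Lib.Gold Cfsg.Lib.Local
  Cfsg.Lib.Local.MSS Cfsg.Lib.Local.JC

universe u

variable {G : Type u} [Group G] [Finite G] {E : Subgroup G → Subgroup G → Prop} {n i j : ℕ}
  {v : ℕ → Subgroup G} {A A' B D H R S T U U' V W W' W'' X Y γ : Subgroup G}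
  {a c d d' d'' e e' g q r r' s u w x x' y y' z z' : G}

theorem b2_comm (h1 : r * r = 1) (h2 : r * a = a * r) (h3 : r * c = c * r) (h4 : ⁅c, a⁆ = r)
    (h5 : u = a ∨ u = r * a) (h6 : w = c ∨ w = r * c) : ⁅u, w⁆ = r := by
  have k : ⁅a, c⁆ = r := by
    rw [← commutatorElement_inv, h4]; exact inv_eq_of_mul_eq_one_right h1
  have k1 : ⁅r * a, c⁆ = ⁅a, c⁆ := by
    simp only [commutatorElement_def]
    calc r * a * c * (r * a)⁻¹ * c⁻¹ = r * a * c * (a * r)⁻¹ * c⁻¹ := by rw [h2]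
      _ = (r * a) * (c * r⁻¹) * a⁻¹ * c⁻¹ := by group
      _ = _ := by rw [h2, (show Commute c r from h3.symm).inv_right.eq]; group
  have k2 : ∀ b, r * b = b * r → ⁅b, r * c⁆ = ⁅b, c⁆ := fun b hb => by
    simp only [commutatorElement_def]
    calc b * (r * c) * b⁻¹ * (r * c)⁻¹ = b * (c * r) * b⁻¹ * (c * r)⁻¹ := by rw [h3]
      _ = b * c * (r * b⁻¹) * r⁻¹ * c⁻¹ := by group
      _ = _ := by rw [(show Commute r b from hb).inv_right.eq]; group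
  rcases h5 with rfl | rfl <;> rcases h6 with rfl | rfl
  · exact k
  · rw [k2 _ h2, k]
  · rw [k1, k]
  · rw [k2 _ (by rw [mul_assoc, ← h2]), k1, k]

theorem Cr.not_two (h : Cr E 2 v) (hp : Ph E) : False := by
  obtain ⟨W, W', U, d, d', y, y', e, c, x, hx⟩ := h.cx
  have t2 := hx.t2 hp
  have pp := h.pp hp le_rfl
  obtain ⟨x1, x2⟩ := hx.x_mem
  obtain ⟨xa, xb⟩ := mem_inf.1 x2
  have hd := hx.ty.co.mem
  have xc : ∀ b ∈ ZZ (v 1), x * b * x⁻¹ = b := fun b hb => mul_inv_eq_iff_eq_mul.2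
    (mem_centralizer_iff.1 (h.comm (i := 1) (j := 2) (by omega) le_rfl (by omega) hb) x x1)
  have xx : x * x = 1 := (h.vt le_rfl).zz_sq x1
  have h1 := hx.shift le_rfl hd fun q => hx.ty.ne (hx.ty.co.fpf hx.ty.my
    ((hx.ty.tv_cj xa hx.mu.tx hd hx.ty.co.ns).1 q))
  obtain ⟨W₁, W₁', U₁, d₁, d₁', r, r', f, c₁, a, hy⟩ := h1.cx
  have m : Mu (Trans.cj d (v 1)) (v 1) W₁ U₁ d₁ f c₁ a r := hy.mu
  have e1 : E (Trans.cj d (v 1)) (v 0) := h1.edge (i := 0) (by omega)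
  have dr : d * r * d⁻¹ = r := mul_inv_eq_iff_eq_mul.2
    (mem_centralizer_singleton_iff.1 (pp _ _ r e1 hy.ty.pt hx.ty.d_mem))
  have r1 : r ≠ 1 := m.tx.ne
  have xr := xc r (m.co'.le m.yU)
  have e2 : Trans.cj x (Trans.cj d (v 1)) = Trans.cj d (Trans.cj d (v 1)) := by
    have q1 : x * d * x⁻¹ * d ∈ QQ (v 0) := t2.cs_eq ▸ hx.ty.co.tv_inv xa hx.mu.tx hx.ty.my
    have q2 := (mem_inf.1 (hx.ty.pa.Q_le
      (mem_normalizer_conj (self_le_normalizer_pCoreOf _ hd) q1))).2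
    have q3 : x * d = d * d * (d * (x * d * x⁻¹ * d) * d⁻¹ * x) := by
      calc x * d = d ^ 3 * (x * d) := by rw [t2.cube, one_mul]
        _ = _ := by rw [pow_three]; group
    rw [cj_cj, cj_cj, q3, cj_mul, cj_eq_of_mem (mul_mem q2 xb)]
  have w1 : Trans.cj d U₁ = W₁ :=
    (m.co'.cj d).eq_of_mem m.co (dr ▸ conj_mem_cj.2 m.yU) m.yW r1
  have w2 : Trans.cj x W₁ = Trans.cj d W₁ := (m.co.cj x).eq_of_mem (e2 ▸ m.co.cj d)
    (xr ▸ conj_mem_cj.2 m.yW) (dr ▸ conj_mem_cj.2 m.yW) r1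
  have cm : ∀ {A W : Subgroup G} {d a b : G}, Co A W d → a ∈ W → b ∈ W → a * b = b * a :=
    fun k ha hb => mem_centralizer_iff.1 (k.vt.zz_comm (k.le hb)) _ (k.le ha)
  have n : ∀ {s t : G}, s * t = t * s → ⁅s, t⁆ ≠ r := fun k l =>
    r1 (l.symm.trans (commutatorElement_eq_one_iff_mul_comm.2 k))
  have a1 : a ≠ 1 := fun q => n (by rw [q]; simp) m.cm
  have ar : r ≠ a := fun q => n (q ▸ cm m.co m.cW m.yW) m.cm
  have c1 : c₁ ≠ 1 := fun q => n (by rw [q]; simp) m.cm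
  have cr : r ≠ c₁ := fun q => n (q ▸ cm m.co' m.yU m.xU) m.cm
  have aW : d * a * d⁻¹ ∈ W₁ := w1 ▸ conj_mem_cj.2 m.xU
  have rW : r ∈ Trans.cj d W₁ := dr ▸ conj_mem_cj.2 m.yW
  have cW : d * c₁ * d⁻¹ ∈ Trans.cj d W₁ := conj_mem_cj.2 m.cW
  have k1 := (m.co.four m.yW aW r1 (fun q => a1 (by simpa using q))
    fun q => ar (by simpa using dr.trans q)).1 m.cW
  have k2 := ((m.co.cj d).four rW cW r1 (fun q => c1 (by simpa using q))
    fun q => cr (by simpa using dr.trans q)).1 (w2 ▸ conj_mem_cj (g := x).2 m.cW)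
  have k3 : ⁅c₁, x * c₁ * x⁻¹⁆ = r := b2_comm (m.co.sq m.yW) (cm m.co m.yW aW)
    (cm (m.co.cj d) rW cW) (by
      rw [← dr, ← m.cm]; simp only [commutatorElement_def]; group)
    ((k1.resolve_left c1).resolve_left cr.symm)
    ((k2.resolve_left fun q => c1 (by simpa using q)).resolve_left
      fun q => cr (by simpa using xr.trans q.symm))
  have cb : c₁ ∈ v 1 := (mem_inf.1 (h1.len (m.co.le m.cW))).1
  have cc := m.co.sq m.cW
  have k4 : c₁ * (x * c₁ * x⁻¹) ∈ Cs (ZZ (v 1)) := mem_centralizer_of_conj_eq fun b hb => by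
    have q1 := xc _ (mem_normalizer_conj (ns_ZZ _ cb) hb)
    have q2 : x⁻¹ * b * x = b := by nth_rewrite 1 [← xc b hb]; group
    calc c₁ * (x * c₁ * x⁻¹) * b * (c₁ * (x * c₁ * x⁻¹))⁻¹
        = c₁ * (x * (c₁ * (x⁻¹ * b * x) * c₁⁻¹) * x⁻¹) * c₁⁻¹ := by group
      _ = c₁ * c₁ * b * (c₁ * c₁)⁻¹ := by rw [q2, q1]; group
      _ = b := by rw [cc]; group
  have cy : c₁ ∈ C1 y := mem_centralizer_singleton_iff.2
    (mem_centralizer_iff.1 (h.adj le_rfl e1 (m.co.le m.cW)) y (hx.ty.co.le hx.ty.my)).symm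
  have xy : x ∈ C1 y := mem_centralizer_singleton_iff.2 (cm hx.mu.co' hx.mu.xU hx.mu.yU)
  have k5 := hx.mu.nx (mem_inf.1 ((h.pa (i := 1) (by omega)).cs_le k4)).2
    (mem_centralizer_singleton_iff.1 (mul_mem cy (mul_mem (mul_mem xy cy) (inv_mem xy))))
  have k6 : ⁅c₁ * (x * c₁ * x⁻¹), x⁆ = r := by
    rw [← k3]
    simp only [commutatorElement_def]
    calc c₁ * (x * c₁ * x⁻¹) * x * (c₁ * (x * c₁ * x⁻¹))⁻¹ * x⁻¹
        = c₁ * (x * c₁ * x⁻¹) * (x * x) * c₁⁻¹ * (x * x)⁻¹ * (x * c₁ * x⁻¹)⁻¹ := by group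
      _ = _ := by rw [xx]; group
  rw [k6] at k5
  obtain rfl := k5.resolve_left r1
  exact r1 (m.co'.fpf m.yU (mem_centralizer_singleton_iff.1
    (pp _ _ r (h.edge (i := 0) (by omega)) hx.ty.pt (mem_O2 m.co'.mem m.co'.odd))))

end Cfsg.Lib.Qtz
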