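import Cfsg.Agent.Qtz.PP2

set_option autoImplicit false
set_option linter.unusedSectionVars false

open scoped commutatorElement

namespace Cfsg.Lib.Qtz

open Cfsg Subgroup Cfsg.Lib.Trans Cfsg.Lib.Trans.TJ Cfsg.Lib.Gold Cfsg.Lib.Local
  Cfsg.Lib.Local.MSS Cfsg.Lib.Local.JC

universe u

variable {G : Type u} [Group G] [Finite G] {E : Subgroup G → Subgroup G → Prop} {n i j : ℕ}
  {v : ℕ → Subgroup G} {A A' B D H R S T U U' V W W' W'' X Y γ : Subgroup G}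
  {a c d d' d'' e e' g q r r' s u w x x' y y' z z' : G}

theorem b3_cs (h1 : g ∈ C1 y) (h2 : g ∈ C1 y') : g ∈ Cs (JC.four y y') := fun _ hu =>
  mem_centralizer_singleton_iff.1 (four_le (W := C1 g)
    (mem_centralizer_singleton_iff.2 (mem_centralizer_singleton_iff.1 h1).symm)
    (mem_centralizer_singleton_iff.2 (mem_centralizer_singleton_iff.1 h2).symm) hu)

theorem T2.lemF (h : T2 A D W W' d d' y y') (h1 : O2 D ≤ C1 y) (h2 : O2 D ≤ C1 y')
    (hd : ∀ g ∈ D, ∃ o ∈ O2 D, ∃ s ∈ A ⊓ D, g = o * s) (hg : g ∈ Ns (JC.four y y'))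
    (ho : Odd (orderOf g)) : g ∈ Cs (JC.four y y') := by
  have hF : JC.four y y' ≤ ZZ A := four_le (h.co.le h.my) (h.co'.le h.my')
  have hS : A ⊓ D ≤ Ns (JC.four y y') := fun s hs => cj_eq_self_iff.1 (by
    rw [JC.four, cj_sup, cj_zpowers, cj_zpowers]
    rcases (h.st s hs.1).1 hs.2 with ⟨e1, e2⟩ | ⟨e1, e2⟩ <;> rw [e1, e2]
    rw [sup_comm])
  have hC : Cs (JC.four y y') ≤ Ns (JC.four y y') := centralizer_le_normalizer _
  have hN := Trans.normalizer_le_normalizer_centralizer (JC.four y y')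
  have hR := (h.syl.1.mono hS le_top).inf_normal_of_le hN hC
  have hQ : Cs (ZZ A) ≤ A ⊓ D ⊓ Cs (JC.four y y') := le_inf h.pa.cs_le (centralizer_le hF)
  have k := h.pa.symm.push (R := A ⊓ D ⊓ Cs (JC.four y y')) (X := Ns (JC.four y y'))
    (inf_comm A D ▸ h.pg) (inf_comm A D ▸ inf_le_left)
    (fun e => h.toTy.ne (mem_bot.1 (e.le (hQ (h.pa.vt.zz_comm (h.co.le h.my))))))
    (fun s hs => cj_eq_self_iff.1 (by
      rw [cj_inf, cj_eq_of_mem (inf_comm D A ▸ hs), cj_eq_self_iff.2 (hN (hS (inf_comm D A ▸ hs)))]))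
    (inf_comm A D ▸ h.inf_o2.trans (h.cs_eq.ge.trans hQ))
    (fun a ha => by
      obtain ⟨o, ho, s, hs, rfl⟩ := hd a ha
      exact mul_mem (hC (b3_cs (h1 ho) (h2 ho))) (hS hs))
    (pair_QQ_ne (h.pg.to_le (hF.trans h.pa.zz_le))
      fun e => h.toTy.ne (mem_bot.1 (e.le (left_mem_four y y'))))
  refine Local.resOf_le_of_le_sup h.pg (hS.trans hN) (fun a ha => ?_) (mem_O2 hg ho)
  obtain ⟨c, hc, m, hm, rfl⟩ := hR.frattini (hN ha)
  exact mul_mem_sup hc (inf_comm D A ▸ k ⟨(mul_mem_cancel_left (hC hc)).1 ha, hm⟩)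

theorem T2.two_pts (h : T2 A D W W' d d' y y') (hx : x ∈ A) (ht : Tv (ZZ A) x y) {φ φ' : G}
    (hΦ : ∀ g ∈ A, x ∉ Trans.cj g D →
      ∃ q, (q = g * y * g⁻¹ ∨ q = g * y' * g⁻¹) ∧ (q = φ ∨ q = φ')) : W = JC.four φ φ' := by
  have key : ∀ a, Co A W a → a * y * a⁻¹ = φ ∨ a * y * a⁻¹ = φ' := by
    intro a ha
    have hne := (ha.distinct h.my ht.ne).1
    rcases eq_or_ne W W' with e | e
    · obtain ⟨q, h1, h2⟩ := hΦ a ha.mem fun k =>
        hne (mul_inv_eq_of_eq_mul ((h.toTy.tv_cj hx ht ha.mem ha.ns).1 k))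
      rw [← h.toTy.eq_iff.1 e, or_self] at h1
      exact h1 ▸ h2
    by_contra k
    have k2 : ∀ b ∈ A, b ∈ Cs W → b ∈ Ns W' → b * y' * b⁻¹ = φ ∨ b * y' * b⁻¹ = φ' := by
      intro b h1 h2 h3
      have e1 : a * b * y * (a * b)⁻¹ = a * y * a⁻¹ := by
        conv_rhs => rw [← conj_eq_of_mem_centralizer h2 h.my]
        group
      have e2 : a * b * y' * (a * b)⁻¹ = b * y' * b⁻¹ := by
        conv_rhs => rw [← conj_eq_of_mem_centralizer (ha.sep h.co' e) (mem_normalizer_conj h3 h.my')]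
        group
      obtain ⟨q, h4, h5⟩ := hΦ (a * b) (mul_mem ha.mem h1) fun k => hne (e1 ▸ mul_inv_eq_of_eq_mul
        ((h.toTy.tv_cj hx ht (mul_mem ha.mem h1) (mul_mem ha.ns (centralizer_le_normalizer _ h2))).1 k))
      rw [e1, e2] at h4
      rcases h4 with rfl | rfl
      exacts [absurd h5 k, h5]
    have h0 := k2 1 (one_mem _) (one_mem _) (one_mem _)
    have h1 := k2 d' h.co'.mem (h.co'.sep h.co e.symm) h.co'.ns
    have h2 := k2 d'⁻¹ (inv_mem h.co'.mem) (inv_mem (h.co'.sep h.co e.symm)) (inv_mem h.co'.ns)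
    obtain ⟨n1, n2, n3⟩ := h.co'.distinct h.my' h.symm.toTy.ne
    rw [one_mul, inv_one, mul_one] at h0
    rw [inv_inv] at h2
    grind
  have h1 := key d h.co
  have h2 := key _ h.co.inv
  rw [inv_inv] at h2
  have h3 := (h.co.distinct h.my ht.ne).2.2
  have h4 := h.co.eq_four (mem_normalizer_conj h.co.ns h.my) (mem_normalizer_conj' h.co.ns h.my)
    (by simpa using ht.ne) (fun e => ht.ne (by simpa [mul_assoc] using congrArg (d * · * d⁻¹) e)) h3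
  rcases h1 with h1 | h1 <;> rcases h2 with h2 | h2
  · exact absurd (h1.trans h2.symm) h3
  · rwa [h1, h2] at h4
  · rwa [h1, h2, JC.four, sup_comm] at h4
  · exact absurd (h1.trans h2.symm) h3

theorem Cr.not_three (h : Cr E n v) (hp : Ph E) (hn : 3 ≤ n) : False := by
  obtain ⟨W, W', U, d, d', y, y', e, c, x, hx⟩ := h.cx
  have h2 : 2 ≤ n := by omega
  have hT := hx.t2 hp
  have hP := h.pp hp h2
  have hE := h.edge' (i := n - 2) (by omega) (by omega)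
  obtain ⟨W₁, W₁', d₁, d₁', φ, φ', hT'⟩ := hp.t2 hE
  obtain ⟨_, _, _, _, _, _, hT''⟩ := hp.t2 (h.gr.symm _ _ hE)
  have hW : W = JC.four φ φ' := hT.two_pts hx.x_mem.2.1 hx.mu.tx fun g hg k => by
    obtain ⟨W₂, W₂', U₂, a, a', z, z', e₂, c₂, x₂, k2⟩ := (hx.shift h2 hg k).cx
    have ha := k2.ty.co
    obtain ⟨q, q1, q2⟩ := k2.next h2 ha.mem fun k3 => k2.ty.ne (ha.fpf k2.ty.my
      ((k2.ty.tv_cj k2.x_mem.2.1 k2.mu.tx ha.mem ha.ns).1 k3))
    rw [cons_pos _ _ (by omega : 0 < n - 1), cons_pos _ _ (by omega : 0 < n - 2)] at q2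
    have q3 := q1.cj a⁻¹
    rw [cj_inv_cj, cj_eq_of_mem (inv_mem ha.mem)] at q3
    have q4 := mem_centralizer_singleton_iff.1
      (hP _ _ _ (h.gr.cj' (h.edge h.pos) hg) q3 k2.ty.d_mem)
    rw [show a⁻¹ * q * a⁻¹⁻¹ = q by
      rw [← mul_left_inj a, ← q4]; group] at q3
    exact ⟨q, (hT.cj' hg).pt_iff.1 q3, hT'.pt_iff.1 q2⟩
  have k := hT'.lemF (hP _ _ _ hE hT'.pt) (hP _ _ _ hE hT'.toTy.pt')
    (fun g hg => inf_comm (v (n - 2 - 1)) (v (n - 2)) ▸ hT''.dec hg) (hW ▸ hT.co.ns) hT.co.odd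
  exact hT.toTy.ne (hT.co.fpf hT.my (k y (hW ▸ hT.my)).symm)

end Cfsg.Lib.Qtz
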