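import Cfsg.Agent.Qtz.B1
import Cfsg.Agent.S3035

set_option autoImplicit false
set_option linter.unusedSectionVars false

open scoped commutatorElement

namespace Cfsg.Lib.Qtz

open Cfsg Subgroup Cfsg.Lib.Trans Cfsg.Lib.Trans.TJ Cfsg.Lib.Gold Cfsg.Lib.Local
  Cfsg.Lib.Local.MSS Cfsg.Lib.Local.JC

universe u

variable {G : Type u} [Group G] [Finite G] {E : Subgroup G → Subgroup G → Prop} {n i j : ℕ}
  {v : ℕ → Subgroup G} {A A' B D H R S T U U' V W W' W'' X Y γ : Subgroup G}
  {a c d d' d'' e e' g q r r' s u w x x' y y' z z' : G}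

theorem Fn.d8 (h : Fn A D W W' U U' d d' e e' y y') (hy : y = y') (hq : QQ A = W ⊔ W') :
    orderOf y = 2 ∧ Nonempty (C1 y ≃* DihedralGroup 4) := by
  have : Fact (Nat.Prime 2) := ⟨Nat.prime_two⟩
  obtain rfl : W = W' := h.ta.toTy.eq_iff.2 hy
  obtain rfl : U = U' := h.td.toTy.eq_iff.2 hy
  obtain ⟨x, xU, tx⟩ := h.tx
  obtain ⟨c, cW, tc⟩ := h.tc
  have y1 := h.ta.toTy.ne
  have o : ∀ {a : G}, a * a = 1 → a ≠ 1 → orderOf a = 2 := fun e k => orderOf_eq_prime (by rw [pow_two, e]) k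
  have WS := h.ta.co.le.trans h.ta.pa.zz_le
  have xS : x ∈ A ⊓ D := (h.td.pa.zz_le (h.td.co.le xU)).symm
  have c1 : c ≠ 1 := fun k => tc.nc (k ▸ one_mem _)
  have x1 : x ≠ 1 := fun k => tx.nc (k ▸ one_mem _)
  have cy : c ≠ y := fun k => tc.nc (k ▸ h.td.co.vt.zz_comm tc.mem)
  have xy : x ≠ y := fun k => tx.nc (k ▸ h.ta.co.vt.zz_comm tx.mem)
  have cm := h.ta.co.tv_act xS.1 tx h.ta.my cW c1 cy
  have c2 := h.ta.co.sq cW
  have x2 := h.td.co.sq xU
  have y2 := h.ta.co.sq h.ta.my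
  have sq : (x * c) ^ 2 = y := by
    rw [← cm, commutatorElement_def, inv_eq_of_mul_eq_one_right c2, inv_eq_of_mul_eq_one_right x2, pow_two,
      ← mul_assoc]
  have o4 : orderOf (x * c) = 4 := orderOf_eq_prime_pow (p := 2) (n := 1) (by rwa [pow_one, sq])
    (by rw [pow_succ, pow_mul, pow_one, sq, pow_two, y2])
  have mx : x ∈ closure {x, c} := subset_closure (.inl rfl)
  have mc : c ∈ closure {x, c} := subset_closure (.inr rfl)
  have my : y ∈ closure {x, c} := sq ▸ pow_mem (mul_mem mx mc) 2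
  have e : C1 y = closure {x, c} := by
    refine le_antisymm (fun g hg => ?_) ((closure_le _).2 ?_)
    · have gS : g ∈ A ⊓ D := (h.ta.pa.syl_of (isSylowIn_self h.ta.pg)).2.2.2 (mem_centralizer_iff.2 fun t ht => by
        obtain ⟨t1, t2, -⟩ := mem_OZ.1 ht
        have k := h.ta.faith t1.1 (centralizer_le WS t2) (centralizer_le WS t2)
        rw [hq, sup_idem] at k
        by_cases a : t = 1
        · rw [a, one_mul, mul_one]
        by_cases b : t = y
        · rw [b]; exact (mem_centralizer_singleton_iff.1 hg).symm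
        exact absurd ((h.ta.co.tv_act xS.1 tx h.ta.my k a b).symm.trans
          (commutatorElement_eq_one_iff_mul_comm.2 (mem_centralizer_iff.1 t2 x xS))) y1)
      have k := h.t0.le ⟨gS, hg⟩
      rw [hq, sup_idem, sup_idem] at k
      refine (sup_le (fun a ha => ?_) (fun a ha => ?_) : U ⊔ W ≤ _) k
      · rcases (h.td.co.four xU h.td.my x1 y1 xy).1 ha with rfl | rfl | rfl | rfl
        exacts [one_mem _, mx, my, mul_mem mx my]
      · rcases (h.ta.co.four cW h.ta.my c1 y1 cy).1 ha with rfl | rfl | rfl | rfl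
        exacts [one_mem _, mc, my, mul_mem mc my]
    · rintro _ (rfl | rfl)
      · exact mem_centralizer_singleton_iff.2 (h.ta.co.vt.tv_fix xS.1 tx)
      · exact mem_centralizer_singleton_iff.2 (h.td.co.vt.tv_fix (WS cW).2 tc)
  refine ⟨o y2 y1, ?_⟩
  rw [e, ← o4]
  exact dih_closure_mulEquiv (o x2 x1) (o c2 c1)

theorem EndA.perm [IsSimpleGroup G] (hG : ¬ IsMulCommutative G) (e : G ≃* Equiv.Perm (Fin (n + 2))) : False := by
  let f := Equiv.Perm.sign.comp e.toMonoidHom
  rcases (inferInstance : f.ker.Normal).eq_bot_or_eq_top with k | k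
  · exact hG ⟨⟨fun a b => (f.ker_eq_bot_iff.1 k) (by rw [map_mul, map_mul, mul_comm])⟩⟩
  · have : f (e.symm (Equiv.swap 0 1)) = 1 := k.ge (mem_top _)
    simp [f] at this

theorem final_of_d8 [IsSimpleGroup G] (hG : ¬ IsMulCommutative G) (hz : orderOf z = 2)
    (hC : Nonempty (C1 z ≃* DihedralGroup 4)) :
    (∃ (F : Type) (_ : Field F) (_ : Fintype F), Fintype.card F = 2 ∧
        Nonempty (G ≃* Matrix.ProjectiveSpecialLinearGroup (Fin 3) F)) ∨
      Nonempty (G ≃* ↥(alternatingGroup (Fin 6))) := by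
  have cen : ∀ {X : Type} [Group X], (G ≃* X) → center X = ⊥ := fun {X} _ e => by
    have := e.isSimpleGroup_congr.1 inferInstance
    refine (inferInstance : (center X).Normal).eq_bot_or_eq_top.resolve_right fun k => hG ⟨⟨fun a b =>
      e.injective ?_⟩⟩
    rw [map_mul, map_mul]
    exact mem_center_iff.1 (k.ge (mem_top _)) _
  rcases Agent.S3035.result z hz hC with k | ⟨⟨e⟩⟩ | ⟨⟨e⟩⟩ | ⟨⟨e⟩⟩ | k
  · exfalso
    rcases (inferInstance : (oddCore G).Normal).eq_bot_or_eq_top with l | l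
    · rw [l, sup_bot_eq] at k
      have m : z ∈ center G := mem_center_iff.2 fun g => mem_centralizer_singleton_iff.1 (k.ge (mem_top g))
      rcases (inferInstance : (center G).Normal).eq_bot_or_eq_top with l | l
      · rw [mem_bot.1 (l.le m), orderOf_one] at hz
        omega
      · exact hG ⟨⟨fun a b => mem_center_iff.1 (l.ge (mem_top b)) a⟩⟩
    · have := Solv.odd_card_oddCore G
      rw [l, card_top] at this
      exact this.not_two_dvd_nat (hz ▸ orderOf_dvd_natCard z)
  · exact (EndA.perm hG e).elim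
  · exact (EndA.perm hG e).elim
  · exact .inl ⟨ZMod 2, inferInstance, inferInstance, ZMod.card 2,
      ⟨e.trans ((QuotientGroup.quotientMulEquivOfEq (cen e)).trans QuotientGroup.quotientBot).symm⟩⟩
  · exact .inr k

end Cfsg.Lib.Qtz
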