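import Cfsg.Agent.Qtz.T2B
import Cfsg.Agent.Gold.Cm

set_option autoImplicit false
set_option linter.unusedSectionVars false

open scoped commutatorElement

namespace Cfsg.Lib.Qtz

open Cfsg Subgroup Cfsg.Lib.Trans Cfsg.Lib.Trans.TJ Cfsg.Lib.Gold Cfsg.Lib.Local
  Cfsg.Lib.Local.MSS Cfsg.Lib.Local.JC

universe u

variable {G : Type u} [Group G] [Finite G] {E : Subgroup G → Subgroup G → Prop} {n i j : ℕ}
  {v : ℕ → Subgroup G} {A A' B D H R S T U U' V W W' W'' X Y γ : Subgroup G}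
  {a c d d' d'' e e' g q r r' s u w x x' y y' z z' : G}

theorem PP1_of_sq (ho : Odd (orderOf g)) (h : g * g ∈ X) : g ∈ X :=
  MSS.mem_of_pow_mem_of_coprime (n := 2) (Nat.coprime_two_right.2 ho) (by rwa [sq])

theorem PP1_of_pm (hq : Y ≤ X) (ha : a ∈ X) (h : a * d⁻¹ ∈ Y ∨ a * d ∈ Y) : d ∈ X := by
  rcases h with h | h
  · exact inv_mem_iff.1 ((mul_mem_cancel_left ha).1 (hq h))
  · exact (mul_mem_cancel_left ha).1 (hq h)

theorem PP1_c1 : g ∈ C1 r ↔ g * r * g⁻¹ = r := by rw [mem_C1, mul_inv_eq_iff_eq_mul]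

theorem T2.o2_of_sup (h : T2 A D W W' d d' y y') (h' : T2 D A U U' e e' r r')
    (h1 : d ∈ (A ⊓ C1 r) ⊔ QQ A) (h2 : d' ∈ (A ⊓ C1 r) ⊔ QQ A) : O2 A ≤ C1 r := by
  have h3 : O2 A ≤ QQ A ⊔ (A ⊓ C1 r) := h.o2_le.trans
    ((sup_le (sup_le (zpowers_le.2 h1) (zpowers_le.2 h2)) le_sup_right).trans (sup_comm _ _).le)
  have h4 : ∀ g ∈ A, g * r * g⁻¹ = r ∨ g * r * g⁻¹ = r' := fun g hg => by
    obtain ⟨o, ho, s, hs, e⟩ := h.dec (inv_mem hg)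
    obtain ⟨q, hq, l, hl, e'⟩ := (Solv.mem_sup_of_le_normalizer
      (inf_le_left.trans (Local.le_normalizer_pCoreOf A))).1 (h3 (inv_mem ho))
    have h5 : s⁻¹ * q ∈ A ⊓ D := mul_mem (inv_mem hs) (h.pa.Q_le hq)
    have h6 : g * r * g⁻¹ = s⁻¹ * q * r * (s⁻¹ * q)⁻¹ := by
      rw [← inv_inv g, e, mul_inv_rev, ← e', ← mul_assoc, mul_inv_rev (s⁻¹ * q), mul_assoc _ l,
        mem_C1.1 hl.2]
      group
    rw [h6]
    exact ((h'.st _ h5.2).1 h5.1).imp And.left And.left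
  refine O2_le_iff.2 fun g hg ho => ?_
  rcases h4 _ (mul_mem hg hg) with h5 | h5
  · exact PP1_of_sq ho (PP1_c1.2 h5)
  · refine PP1_c1.2 ((h4 g hg).elim id fun h6 => ?_)
    rw [← h6] at h5
    calc g * r * g⁻¹ = g⁻¹ * (g * g * r * (g * g)⁻¹) * g := by group
      _ = _ := by rw [h5]; group

theorem T2.d_mem_sup (h : T2 A D W W' d d' y y') (h' : T2 D A U U' e e' r r') (hx : x ∈ A)
    (ht : Tv (ZZ A) x z) (hz : z ∈ W) (hne : z ≠ y) (hc : x * r = r * x) :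
    d ∈ (A ⊓ C1 r) ⊔ QQ A := by
  obtain ⟨k, hk, k1, k2, k3, k4⟩ :
      ∃ k ∈ A ⊓ D, k * r = r * k ∧ k * y = y * k ∧ k ∈ Ns W ∧ k ∉ Cs W := by
    by_cases hW : W = W'
    · obtain ⟨k, hk, hkQ⟩ := SetLike.not_le_iff_exists.1 h'.star
      have h1 : k ∈ A ⊓ D := (h'.pa.Q_le hk).symm
      have h2 : k ∈ Ns W := mem_Ns_iff.2 ((h.orb k h1.1).elim And.left fun e => e.1.trans hW.symm)
      exact ⟨k, h1, (mem_Cs.1 (h'.pa.vt.Q_le_cs hk) r (h'.co.le h'.my)).symm,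
        (h.toTy.fix h1 h2).1, h2, fun c => hkQ (h.faith h1.1 c (hW ▸ c))⟩
    · obtain ⟨x₀, hx₀, t₀⟩ := h.pt
      obtain ⟨s, hs, -, s2⟩ := h.sw
      have h1 : ⁅s, x₀⁆ ∈ A ⊓ D :=
        mul_mem (mul_mem (mul_mem hs hx₀) (inv_mem hs)) (inv_mem hx₀)
      have h2 := h.toTy.comm_fix hs hx₀
      refine ⟨_, h1, h'.toTy.comm_fix hs.symm hx₀.symm, h2, (h.toTy.fix' h1 h2).2.1, fun c => ?_⟩
      have h3 := t₀.cj' (ns_ZZ A hs.1)
      rw [s2] at h3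
      have h4 := h.co.tv_sep (mul_mem (mul_mem hs.1 hx₀.1) (inv_mem hs.1)) h3
        fun m => hW (h.co.eq_of_mem h.co' m h.my' h.toTy.symm.ne)
      have h5 : x₀ ∈ Cs W := inv_mem_iff.1 ((mul_mem_cancel_left h4).1 c)
      exact h.toTy.ne ((h.co.tv_act hx₀.1 t₀ h.my hz ht.ne hne).symm.trans
        (commutatorElement_eq_one_iff_mul_comm.2 (mem_Cs.1 h5 z hz).symm))
  have hx' : k * x * k⁻¹ ∈ A := mul_mem (mul_mem hk.1 hx) (inv_mem hk.1)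
  have h1 := h.co.tv_mul hx hx' ht (ht.cj' (ns_ZZ A hk.1)) hz (mem_normalizer_conj k3 hz) fun e =>
    k4 (h.co.fix_two hz h.my ht.ne h.toTy.ne hne (mul_inv_eq_iff_eq_mul.1 e.symm) k2)
  rw [h.cs_eq] at h1
  exact PP1_of_pm le_sup_right (mem_sup_left (mem_inf.2 ⟨mul_mem hx' hx, mul_mem (mul_mem (mul_mem
    (mem_C1.2 k1) (mem_C1.2 hc)) (inv_mem (mem_C1.2 k1))) (mem_C1.2 hc)⟩)) h1

theorem PP1_mem (h : T2 A D W W' d d' y y') (h' : T2 D A U U' e e' r r') (hx : x ∈ A)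
    (ht : Tv (ZZ A) x y) (hc : x * (d * r * d⁻¹) = d * r * d⁻¹ * x) : d ∈ (A ⊓ C1 r) ⊔ QQ A := by
  have hd := inv_mem h.co.mem
  refine h.d_mem_sup h' (mul_mem (mul_mem hd hx) (inv_mem hd)) (ht.cj' (ns_ZZ A hd))
    (mem_normalizer_conj (inv_mem h.co.ns) h.my)
    (by rw [inv_inv]; exact (h.co.distinct h.my h.toTy.ne).2.1) ?_
  calc d⁻¹ * x * d⁻¹⁻¹ * r = d⁻¹ * (x * (d * r * d⁻¹)) * d := by group
    _ = _ := by rw [hc]; group

theorem PP1_core (h : T2 A D W W' d d' y y') (h' : T2 D A U U' e e' r r') (hx : x ∈ A)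
    (ht : Tv (ZZ A) x y) {φ φ' : G} (h1 : x * φ = φ * x) (h2 : x * φ' = φ' * x)
    (hΦ : ∀ g ∈ A, x ∉ Trans.cj g D →
      ∃ q, (q = g * r * g⁻¹ ∨ q = g * r' * g⁻¹) ∧ (q = φ ∨ q = φ'))
    (hd : d ∈ (A ⊓ C1 r) ⊔ QQ A) : O2 A ≤ C1 r ∧ O2 A ≤ C1 r' := by
  suffices hd' : d' ∈ (A ⊓ C1 r) ⊔ QQ A by
    have h3 := h.o2_of_sup h' hd hd'
    obtain ⟨s, hs, -, s2⟩ := h'.sw
    refine ⟨h3, fun o ho => ?_⟩
    have h4 := mem_C1.1 (h3 (mem_normalizer_conj' (Local.le_normalizer_resOf A hs.2) ho))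
    rw [mem_C1, ← s2]
    calc o * (s * r * s⁻¹) = s * (s⁻¹ * o * s * r) * s⁻¹ := by group
      _ = _ := by rw [h4]; group
  have key : ∀ X : Subgroup G, QQ A ≤ X → ∀ l ∈ A, Trans.cj l W = W' → l * d * l⁻¹ ∈ X → d' ∈ X :=
    fun X hX l hl e m => PP1_of_pm hX m (h.cs_eq ▸ h.co'.same (e ▸ h.co.cj' hl))
  by_cases hW : W = W'
  · exact key _ le_sup_right 1 (one_mem _) ((cj_one W).trans hW) (by simpa using hd)
  by_cases hl : ∃ l ∈ A ⊓ C1 r, l ∉ Ns W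
  · obtain ⟨l, hl, hn⟩ := hl
    exact key _ le_sup_right l hl.1 ((h.orb l hl.1).resolve_left fun e => hn (mem_Ns_iff.2 e.1)).1
      (mul_mem (mul_mem (mem_sup_left hl) hd) (inv_mem (mem_sup_left hl)))
  push Not at hl
  obtain ⟨s, hs, s1, -⟩ := h.sw
  have s3 : s ∉ Ns W := fun c => hW ((mem_Ns_iff.1 c).symm.trans s1)
  obtain ⟨s4, s5⟩ := ((h'.st s hs.2).1 hs.1).resolve_left fun e => s3 (hl s ⟨hs.1, PP1_c1.2 e.1⟩)
  have hQ : ∀ q ∈ QQ A, q ∈ C1 r ∧ q ∈ C1 r' := fun q hq => by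
    have h3 := h.pa.Q_le hq
    rcases (h'.st q h3.2).1 h3.1 with e | e
    · exact ⟨PP1_c1.2 e.1, PP1_c1.2 e.2⟩
    · refine absurd ((mul_mem_cancel_right (centralizer_le_normalizer _
        (centralizer_le h.co.le (h.pa.vt.Q_le_cs hq)))).1 (hl (s * q) ⟨mul_mem hs.1 h3.1,
          PP1_c1.2 ?_⟩)) s3
      calc s * q * r * (s * q)⁻¹ = s * (q * r * q⁻¹) * s⁻¹ := by group
        _ = _ := by rw [e.1, s5]
  have cj1 : ∀ {a b : G}, d ∈ C1 a → s * a * s⁻¹ = b → s * d * s⁻¹ ∈ C1 b := fun {a b} m e => by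
    rw [mem_C1, ← e]
    calc s * d * s⁻¹ * (s * a * s⁻¹) = s * (d * a) * s⁻¹ := by group
      _ = _ := by rw [mem_C1.1 m]; group
  have q1 : QQ A ≤ C1 r := fun q hq => (hQ q hq).1
  have q2 : QQ A ≤ C1 r' := fun q hq => (hQ q hq).2
  have d1 : d ∈ C1 r := sup_le inf_le_right q1 hd
  have d2 : d' ∈ C1 r' := key _ q2 s hs.1 s1 (cj1 d1 s4)
  refine mem_sup_left (mem_inf.2 ⟨h.co'.mem, ?_⟩)
  by_contra d3
  have d4 : d ∉ C1 r' := fun m => d3 (key _ q1 s hs.1 s1 (cj1 m s5))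
  have d5 : d' ∈ Cs W := h.co'.sep h.co (Ne.symm hW)
  have h5 : ∀ a ∈ zpowers d', d * a * r * (d * a)⁻¹ = φ ∨ d * a * r * (d * a)⁻¹ = φ' := fun a ha => by
    have a1 := zpowers_le.2 d5 ha
    have a2 := mul_mem h.co.mem (zpowers_le.2 h.co'.mem ha)
    obtain ⟨q, q3, q4⟩ := hΦ _ a2 fun c => h.toTy.ne (h.co.fpf h.my (by
      have := (h.toTy.tv_cj hx ht a2 (mul_mem h.co.ns (centralizer_le_normalizer _ a1))).1 c
      rwa [mul_assoc, ← mem_Cs.1 a1 y h.my, ← mul_assoc, ← mul_assoc, mul_left_inj] at this))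
    rcases q3 with rfl | q3
    · exact q4
    · have a3 : q = d * r' * d⁻¹ :=
        calc q = d * (a * r' * a⁻¹) * d⁻¹ := by rw [q3]; group
          _ = _ := by rw [PP1_c1.1 (zpowers_le.2 d2 ha)]
      refine absurd (sup_le inf_le_right q2 (PP1_mem h h'.symm hx ht ?_)) d4
      rcases q4 with e | e <;> rwa [← a3, e]
  have h6 : ∀ a b : G, d * a * r * (d * a)⁻¹ = d * b * r * (d * b)⁻¹ → b⁻¹ * a ∈ C1 r := fun a b e => by
    rw [PP1_c1]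
    calc b⁻¹ * a * r * (b⁻¹ * a)⁻¹ = (d * b)⁻¹ * (d * a * r * (d * a)⁻¹) * (d * b) := by group
      _ = _ := by rw [e]; group
  have e1 := fun e => show d' ∈ C1 r by simpa using h6 d' 1 e
  have e2 := fun e => show d' * d' ∈ C1 r by simpa using h6 d' d'⁻¹ e
  have e3 := fun e => show d' ∈ C1 r by simpa using h6 1 d'⁻¹ e
  rcases h5 1 (one_mem _) with a | a <;> rcases h5 d' (mem_zpowers _) with b | b <;>
    rcases h5 d'⁻¹ (inv_mem (mem_zpowers _)) with c | c <;>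
    first
      | exact d3 (e1 (b.trans a.symm))
      | exact d3 (e3 (a.trans c.symm))
      | exact d3 (PP1_of_sq h.co'.odd (e2 (b.trans c.symm)))

theorem T2.pp_core (h : T2 A D W W' d d' y y') (h' : T2 D A U U' e e' r r') (hx : x ∈ A)
    (ht : Tv (ZZ A) x y) {φ φ' : G} (h1 : x * φ = φ * x) (h2 : x * φ' = φ' * x)
    (hΦ : ∀ g ∈ A, x ∉ Trans.cj g D →
      ∃ q, (q = g * r * g⁻¹ ∨ q = g * r' * g⁻¹) ∧ (q = φ ∨ q = φ')) :
    O2 A ≤ C1 r ∧ O2 A ≤ C1 r' := by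
  obtain ⟨q, q1, q2⟩ := hΦ d h.co.mem fun c =>
    h.toTy.ne (h.co.fpf h.my ((h.toTy.tv_cj hx ht h.co.mem h.co.ns).1 c))
  have q3 : x * q = q * x := by rcases q2 with e | e <;> rwa [e]
  rcases q1 with rfl | rfl
  · exact PP1_core h h' hx ht h1 h2 hΦ (PP1_mem h h' hx ht q3)
  · exact (PP1_core h h'.symm hx ht h1 h2 (fun g hg c => (hΦ g hg c).imp fun _ => And.imp_left Or.symm)
      (PP1_mem h h'.symm hx ht q3)).symm

end Cfsg.Lib.Qtz
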