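import Cfsg.Agent.Qtz.TyB
import Cfsg.Agent.Qtz.Sh0
import Cfsg.Agent.Gold.Cm
import Cfsg.Agent.Trans.ChiefTools

set_option autoImplicit false
set_option linter.unusedSectionVars false

open scoped commutatorElement

namespace Cfsg.Lib.Qtz

open Cfsg Subgroup Cfsg.Lib.Trans Cfsg.Lib.Trans.TJ Cfsg.Lib.Gold Cfsg.Lib.Local
  Cfsg.Lib.Local.MSS Cfsg.Lib.Local.JC

universe u

variable {G : Type u} [Group G] [Finite G] {E : Subgroup G → Subgroup G → Prop} {n i j : ℕ}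
  {v : ℕ → Subgroup G} {A A' B D H R S T U U' V W W' W'' X Y γ : Subgroup G}
  {a c d d' d'' e e' g q r r' s u w x x' y y' z z' : G}

theorem Shift_anti (h : X ≤ Y) : Cs Y ≤ Cs X := centralizer_le h

theorem Shift_cs_sup : Cs (X ⊔ Y) = Cs X ⊓ Cs Y :=
  le_antisymm (le_inf (Shift_anti le_sup_left) (Shift_anti le_sup_right))
    (le_centralizer_iff.1 (sup_le (le_centralizer_iff.1 inf_le_left)
      (le_centralizer_iff.1 inf_le_right)))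

theorem Ty.two_of_norm (h : Ty A D W W' d d' y y') (h2 : ZZ D ≤ Cs (ZZ A))
    (hn : A ≤ Ns (ZZ A ⊔ ZZ D)) : IsPGroup 2 (Cs (ZZ D)) := by
  have h1 : O2 (Cs (ZZ D)) ≤ O2 (A ⊓ D) := Local.resOf_mono (h.pa.symm.cs_le.trans (inf_comm _ _).le)
  have h3 : O2 (Cs (ZZ D)) ≤ Cs (ZZ A ⊔ ZZ D) := by
    refine le_trans ?_ (Shift_anti (sup_le h.zz_le le_sup_right))
    rw [Shift_cs_sup, Shift_cs_sup]
    exact le_inf (le_inf (h1.trans h.o2_cent) (h1.trans h.symm.o2_cent)) (Local.resOf_le _)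
  have h4 : O2 (Cs (ZZ D)) = O2 (Cs (ZZ A ⊔ ZZ D)) :=
    le_antisymm ((Local.resOf_resOf _).ge.trans (Local.resOf_mono h3))
      (Local.resOf_mono (Shift_anti le_sup_right))
  exact Local.resOf_eq_bot_iff.1 (h.pa.eq_bot' (h1.trans (Local.resOf_le _))
    (by
      have := MSS.le_normalizer_resOf (p := 2) fun g hg => mem_Ns_Cs (hn hg)
      rwa [← show _ = resOf 2 _ from h4] at this)
    (MSS.le_normalizer_resOf fun g hg => mem_Ns_Cs (ns_ZZ D hg)))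

theorem Ty.no_norm (h : Ty A D W W' d d' y y') (ht : Tv (ZZ A) x y) (h1 : x ∈ Cs (ZZ D))
    (h2 : ZZ D ≤ Cs (ZZ A)) (hn : A ≤ Ns (ZZ A ⊔ ZZ D)) : False := by
  have hRB : Cs (ZZ D) ≤ A ⊓ D := h.pa.symm.cs_le.trans (inf_comm _ _).le
  obtain ⟨S, hS, hRS⟩ := exists_isSylowIn_ge (h.two_of_norm h2 hn) hRB
  have hx := (hRB h1).1
  have nA : A ≤ Ns (Cs (ZZ A)) := fun g hg => mem_Ns_Cs (ns_ZZ A hg)
  have nD : D ≤ Ns (Cs (ZZ D)) := fun g hg => mem_Ns_Cs (ns_ZZ D hg)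
  have nV : A ≤ Ns (Cs (ZZ A ⊔ ZZ D)) := fun g hg => mem_Ns_Cs (hn hg)
  have hX : ∀ c ∈ A, c ∈ h.pa.vt.sec.X ↔ c ∈ Cs (ZZ A) := fun c hc => by
    rw [Ngrp.Sec.mem_X, mem_Cs]
    simp only [hc, true_and, mem_bot, commutatorElement_eq_one_iff_mul_comm, eq_comm]
  obtain ⟨K, hK⟩ : ∃ K, K = Solv.commLe (ZZ A ⊔ ZZ D) (ZZ A) ⊓
    Solv.commLe (Cs (ZZ A)) (Cs (ZZ A ⊔ ZZ D)) := ⟨_, rfl⟩
  obtain ⟨P, hP⟩ : ∃ P, P = h.pa.vt.sec.preK (Ngrp.Ogp _ h.pa.vt.sec.Mo) := ⟨_, rfl⟩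
  have nK : A ≤ Ns K := hK ▸ fun g hg =>
    mem_Ns_inf (le_normalizer_commLe hn (ns_ZZ A) hg) (le_normalizer_commLe nA nV hg)
  have nL : A ≤ Ns (K ⊓ P) := fun g hg =>
    mem_Ns_inf (nK hg) (hP ▸ h.pa.vt.sec.le_normalizer_preK Ngrp.Ogp_normal hg)
  have hPA : P ≤ A := hP ▸ h.pa.vt.sec.preK_le
  have hLA : K ⊓ P ≤ A := inf_le_right.trans hPA
  have xK : x ∈ K := by
    refine hK ▸ mem_inf.2 ⟨⟨ns_ZZ A hx, fun u hu => ?_⟩, nV hx, fun q hq => ?_⟩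
    · obtain ⟨a, ha, b, hb, rfl⟩ := (Solv.mem_sup_of_le_normalizer
        ((h.pa.symm.zz_le.trans inf_le_right).trans (ns_ZZ A))).1 hu
      have : ⁅x, a * b⁆ = x * a * x⁻¹ * a⁻¹ :=
        calc ⁅x, a * b⁆ = x * a * b * (b * x)⁻¹ * a⁻¹ := by group
          _ = _ := by rw [mem_Cs.1 h1 b hb]; group
      rw [this]
      exact mul_mem (mem_normalizer_conj (ns_ZZ A hx) ha) (inv_mem ha)
    · rw [Shift_cs_sup, commutatorElement_def]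
      refine mem_inf.2 ⟨mul_mem (mem_normalizer_conj (nA hx) hq) (inv_mem hq), ?_⟩
      rw [mul_assoc, mul_assoc, ← mul_assoc q]
      exact mul_mem h1 (mem_normalizer_conj (nD (h.pa.cs_le hq).2) (inv_mem h1))
  have odd : ∀ l ∈ P, Odd (orderOf (h.pa.vt.sec.hat l)) := fun l hl =>
    h.pa.vt.red.odd_of_mem_Ogp (h.pa.vt.sec.mem_preK.1 (hP ▸ hl)).2
  have h3 : S ⊓ O2 (K ⊓ P) ≤ (K ⊓ P) ⊓ Cs (ZZ A ⊔ ZZ D) := by
    refine two_mem_of_central (K := (K ⊓ P) ⊓ Cs (ZZ A))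
      (inf_le_inf_left _ (Shift_anti le_sup_left)) inf_le_left
      (fun l hl => mem_Ns_inf (le_normalizer hl) (nV (hLA hl)))
      (fun l hl => mem_Ns_inf (le_normalizer hl) (nA (hLA hl))) (fun l hl k hk => ?_)
      (fun k hk => ?_) (fun l hl => ⟨_, odd l hl.2, mem_inf.2 ⟨pow_mem hl _, ?_⟩⟩) hS.isPGroup
    · exact mem_inf.2 ⟨mul_mem (mul_mem (mul_mem hl hk.1) (inv_mem hl)) (inv_mem hk.1),
        (hK ▸ hl.1).2.2 k hk.2⟩
    · refine mem_inf.2 ⟨mul_mem hk.1 hk.1, mem_Cs.2 fun u hu => ?_⟩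
      have h4 := (hK ▸ hk.1.1).1.2 u hu
      have h5 : k * u = ⁅k, u⁆ * (u * k) := by group
      rw [mul_assoc, h5, ← mul_assoc k, ← mem_Cs.1 hk.2 _ h4, mul_assoc, ← mul_assoc k, h5,
        mul_assoc _ (u * k), ← mul_assoc ⁅k, u⁆, h.pa.vt.zz_sq h4, one_mul, mul_assoc]
    · rw [← hX _ (pow_mem (hLA hl) _), ← h.pa.vt.sec.hat_eq_one (pow_mem (hLA hl) _),
        h.pa.vt.sec.hat_pow (hLA hl), pow_orderOf_eq_one]
  have hSA : S ≤ A := hS.le.trans inf_le_left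
  refine h.pa.push1 (H := O2 (K ⊓ P) ⊔ S) hS le_sup_right
    (sup_le ((Local.resOf_le (K ⊓ P)).trans hLA) hSA) (fun hH => ?_)
    hRS (fun e => h.pa.vt'.zz_ne (le_bot_iff.1 (h.pa.vt'.zz_comm.trans e.le))) nD ?_
  swap
  · rw [O2, resOf_sup_eq_of_isPGroup (MSS.le_normalizer_resOf (hSA.trans nL)) hS.isPGroup,
      Local.resOf_resOf]
    exact h3.trans (inf_le_right.trans (Shift_anti le_sup_right))
  have hd := h.co.mem
  have hx' : d * x * d⁻¹ ∈ A := mul_mem (mul_mem hd hx) (inv_mem hd)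
  have h4 := h.co.tv_mul hx hx' ht (ht.cj' (ns_ZZ A hd)) h.my (mem_normalizer_conj h.co.ns h.my)
    (h.co.distinct h.my h.ne).1.symm
  have dP : d ∈ P := hP ▸ h.pa.vt.sec.mem_preK.2 ⟨hd, h.co.cmp.1.mem_Ogp⟩
  have cP : Cs (ZZ A) ≤ P := fun c hc =>
    hP ▸ h.pa.vt.sec.X_le_preK ((hX c (h.pa.cs_le hc).1).2 hc)
  have kP : d * x * d⁻¹ * x ∈ P := h4.elim (fun e => (mul_mem_cancel_right (inv_mem dP)).1 (cP e))
    fun e => (mul_mem_cancel_right dP).1 (cP e)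
  obtain ⟨f, f1, f2, f3⟩ := h.pa.vt.sec.exists_odd_zpowers (hPA kP) (odd _ kP)
  have f4 : f ∈ K ⊓ P :=
    zpowers_le.2 (mem_inf.2 ⟨mul_mem (mem_normalizer_conj (nK hd) xK) xK, kP⟩) f1
  rw [h.pa.vt.sec.hat_eq_hat (hLA f4) (hPA kP), hX _ (mul_mem (hLA f4) (inv_mem (hPA kP)))] at f3
  have kD : d * x * d⁻¹ * x ∈ D := inv_mem_iff.1
    ((mul_mem_cancel_left (hH (mem_sup_left (mem_O2 f4 f2)))).1 (h.pa.cs_le f3).2)
  refine h.nd (h4.elim (fun e => inv_mem_iff.1 ?_) fun e => ?_) <;>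
    exact (D.mul_mem_cancel_left kD).1 (h.pa.cs_le e).2

theorem Cx.shift (h : Cx E n v W W' U d d' y y' e c x) (hn : 2 ≤ n) (hg : g ∈ v 0)
    (hx : x ∉ Trans.cj g (v 1)) : Cr E n (cons (Trans.cj g (v 1)) v) := by
  have e1 : E (v 0) (v 1) := h.cr.edge h.cr.pos
  have e2 := h.cr.gr.symm _ _ (h.cr.gr.cj' e1 hg)
  refine h.cr.cons e2 fun hc => ?_
  have h1 := (h.cr.pa (i := n - 1) (by omega)).cs_le
  rw [show n - 1 + 1 = n by omega] at h1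
  have x0 := h.x_mem.2.1
  have h2 : v 0 ≤ Ns (ZZ (v 0) ⊔ ZZ (Trans.cj g (v 1))) := by
    refine (h.ty.pa.cj' hg).gen (fun a ha => mem_Ns_sup (ns_ZZ _ ha.1) (ns_ZZ _ ha.2)) x0 hx
      (mem_normalizer_of_cj_le ?_)
    rw [cj_sup, cj_eq_of_mem_normalizer (ns_ZZ _ x0)]
    refine sup_le le_sup_left (cj_le_iff.2 fun a ha => ?_)
    have h3 := h.mu.co.le h.mu.yW
    rw [show x * a * x⁻¹ = ⁅a, x⁆⁻¹ * a by group]
    refine mul_mem (inv_mem (mem_sup_left ?_)) (mem_sup_right ha)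
    rcases h.mu.nx (h1 (hc ha)).2 (mem_Cs.1 (h.cr.adj hn e2 ha) y h3).symm with e | e <;> rw [e]
    · exact one_mem _
    · exact h3
  refine h.ty.no_norm h.mu.tx (le_centralizer_iff.1 (h.cr.comm (i := 1) (j := n) (by omega) le_rfl
    (by omega)) h.x_mem.1) (h.cr.adj hn (h.cr.gr.symm _ _ e1)) ?_
  have h3 := cj_eq_of_mem_normalizer (h2 (inv_mem hg))
  rw [cj_sup, cj_eq_of_mem_normalizer (ns_ZZ _ (inv_mem hg)), ZZ_cj, cj_inv_cj] at h3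
  rwa [h3, ← ZZ_cj]

end Cfsg.Lib.Qtz
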