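import Cfsg.Agent.Qtz.TyA
import Cfsg.Agent.Qtz.Shift
import Cfsg.Agent.Qtz.Start

set_option autoImplicit false
set_option linter.unusedSectionVars false

open scoped commutatorElement

namespace Cfsg.Lib.Qtz

open Cfsg Subgroup Cfsg.Lib.Trans Cfsg.Lib.Trans.TJ Cfsg.Lib.Gold Cfsg.Lib.Local
  Cfsg.Lib.Local.MSS Cfsg.Lib.Local.JC

universe u

variable {G : Type u} [Group G] [Finite G] {E : Subgroup G → Subgroup G → Prop} {n i j : ℕ}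
  {v : ℕ → Subgroup G} {A A' B D H R S T U U' V W W' W'' X Y γ : Subgroup G}
  {a c d d' d'' e e' g q r r' s u w x x' y y' z z' : G}

theorem ph1_pg (h : Ty A D W W' d d' y y') (h' : Ty D A U U' e e' r r') :
    IsPGroup 2 (A ⊓ D : Subgroup G) := by
  have k : O2 (A ⊓ D) = ⊥ := by
    refine h.pa.eq_bot' (O2_le_iff.2 fun g hg _ => hg) h.o2_norm ?_
    rw [inf_comm]
    exact h'.o2_norm
  have k2 : ∀ g ∈ A ⊓ D, Odd (orderOf g) → g ∈ (⊥ : Subgroup G) := O2_le_iff.1 k.le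
  rw [IsPGroup.iff_orderOf]
  intro g
  obtain ⟨m, l, hl, hm⟩ := Nat.exists_eq_two_pow_mul_odd (orderOf_pos (g : G)).ne'
  have ho : orderOf ((g : G) ^ 2 ^ m) = l := by
    rw [orderOf_pow' _ (by positivity), hm, Nat.gcd_mul_right_left,
      Nat.mul_div_cancel_left _ (by positivity)]
  have := mem_bot.1 (k2 _ (pow_mem g.2 _) (ho ▸ hl))
  rw [this, orderOf_one] at ho
  exact ⟨m, by rw [← Subgroup.orderOf_coe, hm, ← ho, mul_one]⟩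

theorem ph1_edge (h : Gr E) (hE : E A D) : ∃ A D : Subgroup G, E A D ∧
    (∃ W W' d d' y y', Ty A D W W' d d' y y') ∧ ∃ W W' d d' y y', Ty D A W W' d d' y y' := by
  obtain ⟨n, v, hc⟩ := exists_cr h hE
  obtain ⟨W, W', U, d, d', y, y', e, c, x, hx⟩ := hc.cx
  rcases Nat.lt_or_ge n 2 with hn | hn
  · obtain rfl : n = 1 := by have := hc.pos; omega
    obtain ⟨W₁, W₁', U₁, d₁, d₁', y₁, y₁', e₁, c₁, x₁, hx₁⟩ := hc.rev.cx
    exact ⟨v 0, v 1, hc.edge (by omega), ⟨_, _, _, _, _, _, hx.ty⟩, _, _, _, _, _, _, hx₁.ty⟩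
  · have hd := hx.ty.co.mem
    have hn' : x ∉ Trans.cj d (v 1) := fun k => hx.ty.ne (hx.ty.co.fpf hx.ty.my
      ((hx.ty.tv_cj hx.x_mem.2.1 hx.mu.tx hd hx.ty.co.ns).1 k))
    obtain ⟨W₁, W₁', U₁, d₁, d₁', y₁, y₁', e₁, c₁, x₁, hx₁⟩ := (hx.shift hn hd hn').cx
    exact ⟨v 0, _, h.cj' (hc.edge (by omega)) hd, ⟨_, _, _, _, _, _, hx.ty.cj' hd⟩,
      _, _, _, _, _, _, hx₁.ty⟩

theorem Gr.ph (h : Gr E) (hE : E A D) : Ph E := by
  obtain ⟨A, D, hE, ⟨W, W', d, d', y, y', h1⟩, U, U', e, e', r, r', h2⟩ := ph1_edge h hE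
  have t : ∀ A D, E A D → ∃ W W' d d' y y', Ty A D W W' d d' y y' := fun A' D' hE' =>
    h.all (P := fun A D => ∃ W W' d d' y y', Ty A D W W' d d' y y')
      (fun _ _ g ⟨_, _, _, _, _, _, k⟩ => ⟨_, _, _, _, _, _, k.cj g⟩) hE ⟨_, _, _, _, _, _, h1⟩
      ⟨_, _, _, _, _, _, h2⟩ hE'
  refine ⟨h, fun A' D' hE' => ?_, t⟩
  obtain ⟨_, _, _, _, _, _, k⟩ := t _ _ hE'
  obtain ⟨_, _, _, _, _, _, k'⟩ := t _ _ (h.symm _ _ hE')
  exact ph1_pg k k'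

theorem Ph.cent_eq (h : Ph E) (hE : E A D) (hT : IsSylowIn 2 T ⊤) : Cs (OZ T) = T := by
  obtain ⟨S, hS, h1, h2⟩ := (h.gr.pa _ _ hE).syl
  have hp : IsPGroup 2 (Cs (OZ S)) := (h.pg _ _ hE).to_le h2
  have k : Cs (OZ S) = S :=
    hS.eq_of_le hp (fun s hs => mem_centralizer_iff.2 fun z hz => ((mem_OZ.1 hz).2.1 s hs).symm)
      le_top
  obtain ⟨g, -, rfl⟩ := hT.exists_cj_eq hS
  rw [OZ, omZ_cj, Cs, ← cj_centralizer]
  exact congrArg _ k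

theorem start_ph (hy : Hy G) (hT : IsSylowIn 2 T ⊤) {M₁ M₂ : Subgroup G}
    (h1 : M₁ ∈ maxTwoLocalsContaining (Cs (OZ T)))
    (h2 : M₂ ∈ maxTwoLocalsContaining (Cs (OZ T))) (hne : M₁ ≠ M₂) :
    ∃ (E : Subgroup G → Subgroup G → Prop) (A D : Subgroup G), Ph E ∧ E A D := by
  obtain ⟨A, D, h⟩ := exists_pa hy hT h1 h2 hne
  obtain ⟨E, hE, k⟩ := exists_gr h
  exact ⟨E, A, D, hE.ph k, k⟩

end Cfsg.Lib.Qtz
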