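import Cfsg.Agent.Qtz.PP1
import Cfsg.Agent.Qtz.Ph1

set_option autoImplicit false
set_option linter.unusedSectionVars false

open scoped commutatorElement

namespace Cfsg.Lib.Qtz

open Cfsg Subgroup Cfsg.Lib.Trans Cfsg.Lib.Trans.TJ Cfsg.Lib.Gold Cfsg.Lib.Local
  Cfsg.Lib.Local.MSS Cfsg.Lib.Local.JC

universe u

variable {G : Type u} [Group G] [Finite G] {E : Subgroup G → Subgroup G → Prop} {n i j : ℕ}
  {v : ℕ → Subgroup G} {A A' B D H R S T U U' V W W' W'' X Y γ : Subgroup G}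
  {a c d d' d'' e e' g q r r' s u w x x' y y' z z' : G}

theorem Cx.t2 (h : Cx E n v W W' U d d' y y' e c x) (hp : Ph E) : T2 (v 0) (v 1) W W' d d' y y' :=
  ⟨h.ty, hp.pg _ _ (h.cr.edge h.cr.pos)⟩

theorem Cx.next (h : Cx E n v W W' U d d' y y' e c x) (hn : 2 ≤ n) (hg : g ∈ v 0)
    (hx : x ∉ Trans.cj g (v 1)) :
    ∃ q, Pt (Trans.cj g (v 1)) (v 0) q ∧ Pt (v (n - 1)) (v (n - 2)) q := by
  obtain ⟨_, _, _, _, _, q, _, _, _, _, k⟩ := (h.shift hn hg hx).cx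
  have := k.pt
  rw [cons_pos _ _ h.cr.pos, cons_pos _ _ (by omega : 0 < n - 1)] at this
  exact ⟨q, k.ty.pt, this⟩

theorem Cr.pp0 (h : Cr E n v) (hp : Ph E) (hn : 2 ≤ n) (hz : Pt (v 1) (v 0) z) :
    O2 (v 0) ≤ C1 z := by
  obtain ⟨W, W', U, d, d', y, y', e, c, x, k⟩ := h.cx
  obtain ⟨U₁, U', e₁, e', r, r', t⟩ := hp.t2 (h.edge' one_pos h.pos)
  obtain ⟨_, _, _, _, φ, φ', t'⟩ := hp.t2 (h.edge' (by omega : 0 < n - 1) (Nat.sub_le n 1))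
  have c1 := h.comm (Nat.sub_le n 1) le_rfl (by omega)
  have := (k.t2 hp).pp_core t k.x_mem.2.1 k.mu.tx (c1 t'.pt.mem x k.x_mem.1)
    (c1 t'.toTy.pt'.mem x k.x_mem.1) fun g hg hx => by
      obtain ⟨q, p1, p2⟩ := k.next hn hg hx
      have p3 := p1.cj g⁻¹
      rw [cj_inv_cj, cj_eq_of_mem (inv_mem hg)] at p3
      refine ⟨q, (t.pt_iff.1 p3).imp ?_ ?_, t'.pt_iff.1 p2⟩ <;>
      · rintro rfl
        group
  rcases t.pt_iff.1 hz with rfl | rfl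
  exacts [this.1, this.2]

theorem Cr.pp (h : Cr E n v) (hp : Ph E) (hn : 2 ≤ n) : PP E := by
  obtain ⟨W, W', U, d, d', y, y', e, c, x, k⟩ := h.cx
  have hd := k.ty.co.mem
  have hx : x ∉ Trans.cj d (v 1) := fun e => k.ty.ne (k.ty.co.fpf k.ty.my
    ((k.ty.tv_cj k.x_mem.2.1 k.mu.tx hd k.ty.co.ns).1 e))
  have hP : ∀ (A D : Subgroup G) g, (∀ z, Pt A D z → O2 D ≤ C1 z) →
      ∀ z, Pt (Trans.cj g A) (Trans.cj g D) z → O2 (Trans.cj g D) ≤ C1 z := fun A D g a z b => by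
    have b' := b.cj g⁻¹
    rw [cj_inv_cj, cj_inv_cj] at b'
    refine O2_le_iff.2 ?_
    rintro _ ⟨o, ho, rfl⟩ oo
    have := mem_centralizer_singleton_iff.1 (a _ b' (mem_O2 ho (by
      rwa [orderOf_injective _ (MulAut.conj g).injective] at oo)))
    refine mem_centralizer_singleton_iff.2 ?_
    calc g * o * g⁻¹ * z = g * (o * (g⁻¹ * z * g⁻¹⁻¹)) * g⁻¹ := by group
      _ = z * (g * o * g⁻¹) := by rw [this]; group
  have h2 := hP _ _ d fun z hz => h.pp0 hp hn hz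
  rw [cj_eq_of_mem hd] at h2
  exact fun A D z hE => h.gr.all hP (h.gr.cj' (h.edge h.pos) hd)
    (fun z hz => (k.shift hn hd hx).pp0 hp hn hz) h2 hE z

end Cfsg.Lib.Qtz
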